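import Groth.Agent.Lib.QFDense6.Dense
import Groth.Agent.Lib.MonoHom.Finite
import Groth.Agent.Lib.SpreadLfp9.Components
import Groth.Agent.S9682

/-!
# Finiteness over opens around generic points
-/

set_option autoImplicit false
set_option backward.isDefEq.respectTransparency false

universe u

open CategoryTheory CategoryTheory.Limits AlgebraicGeometry

namespace GrothLib.GenFinite9

variable {X Y : Scheme.{u}}

theorem quasiFiniteAt_of_finite_fibre (f : X ⟶ Y) [LocallyOfFiniteType f] {x : X}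
    (h : (f ⁻¹' {f x}).Finite) : f.QuasiFiniteAt x := by
  have : Finite (f.fiber (f x)) := (f.fiberHomeo (f x)).finite_iff.mpr h.to_subtype
  have : LocallyOfFiniteType (f.fiberToSpecResidueField (f x)) :=
    MorphismProperty.pullback_snd f _ ‹LocallyOfFiniteType f›
  exact Scheme.Hom.quasiFiniteAt_iff_isOpen_singleton_asFiber.mpr (isOpen_discrete _)

/-- The open subset of the base over which a quasi-compact morphism is locally quasi-finite
contains every maximal point with quasi-finite fibre. -/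
theorem exists_open_locallyQuasiFinite (f : X ⟶ Y) [LocallyOfFiniteType f] [QuasiCompact f] :
    ∃ V : Y.Opens, LocallyQuasiFinite (f ∣_ V) ∧
      ∀ η : Y, closure {η} ∈ irreducibleComponents (Y : Type u) →
        (∀ x, f x = η → f.QuasiFiniteAt x) → η ∈ V := by
  let V : Y.Opens := ⟨(closure (f '' ((f.quasiFiniteLocus : Set X)ᶜ)))ᶜ,
    isClosed_closure.isOpen_compl⟩
  refine ⟨V, ?_, fun η hη hqf h ↦ ?_⟩
  · rw [← Scheme.Hom.quasiFiniteLocus_eq_top_iff]
    ext x
    have : f.QuasiFiniteAt ((f ⁻¹ᵁ V).ι x) := by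
      by_contra H
      exact x.2 (subset_closure ⟨_, H, rfl⟩)
    rw [← Scheme.Hom.quasiFiniteAt_comp_iff_of_isOpenImmersion, ← morphismRestrict_ι,
      Scheme.Hom.quasiFiniteAt_comp_iff] at this
    simpa
  · obtain ⟨z, hz, hzη⟩ := GrpdQuot.exists_specializes_of_mem_closure f _
      f.quasiFiniteLocus.isOpen.isClosed_compl η h
    exact hz (hqf z (MorQ9.eq_of_specializes_generic hη hzη))

theorem exists_dense_finite (f : X ⟶ Y) [LocallyOfFiniteType f] [QuasiCompact f]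
    (h : ∀ η : Y, closure {η} ∈ irreducibleComponents (Y : Type u) →
      ∀ x, f x = η → f.QuasiFiniteAt x) :
    ∃ V : Y.Opens, Dense (V : Set Y) ∧ IsFinite (f ∣_ V) := by
  obtain ⟨V, hV, hmem⟩ := exists_open_locallyQuasiFinite f
  have : LocallyOfFiniteType (f ∣_ V) := IsZariskiLocalAtTarget.restrict ‹_› V
  obtain ⟨U, hU, hfin⟩ := QFDense6.exists_dense_open_finite (f ∣_ V)
  refine ⟨V.ι ''ᵁ U, ?_, ?_⟩
  · have hVd : Dense (V : Set Y) := SpreadLfp9.dense_of_generic_mem fun η hη ↦ hmem η hη (h η hη)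
    have hd : DenseRange V.ι := by
      rw [DenseRange, Scheme.Opens.range_ι]
      exact hVd
    exact hd.dense_image V.ι.continuous hU
  · exact (MorphismProperty.arrow_mk_iso_iff @IsFinite (morphismRestrictRestrict f V U)).mp hfin

/-- A quasi-separated morphism with finite fibre over a maximal point is finite near it. -/
theorem exists_affine_finite (f : X ⟶ Y) [LocallyOfFiniteType f] [QuasiCompact f] [QuasiSeparated f]
    (η : Y) (hη : closure {η} ∈ irreducibleComponents (Y : Type u))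
    (hfin : (f ⁻¹' {η}).Finite) :
    ∃ V : Y.Opens, IsAffineOpen V ∧ η ∈ V ∧ IsFinite (f ∣_ V) := by
  have hqf : ∀ x, f x = η → f.QuasiFiniteAt x := fun x hx ↦
    quasiFiniteAt_of_finite_fibre f (hx ▸ hfin)
  obtain ⟨V₀, hV₀, hmem⟩ := exists_open_locallyQuasiFinite f
  obtain ⟨V, hV, hηV, hVle⟩ := exists_isAffineOpen_mem_and_subset (hmem η hη hqf)
  have hqs : QuasiSeparatedSpace (f ⁻¹ᵁ V : X.Opens) := by
    have : IsAffine (V : Scheme.{u}) := hV
    exact quasiSeparatedSpace_of_quasiSeparated (f ∣_ V)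
  have : Finite (f ⁻¹' {η} : Set X) := hfin.to_subtype
  let pt : (f ⁻¹' {η} : Set X) → (f ⁻¹ᵁ V : X.Opens) := fun x ↦
    ⟨x.1, show f x.1 ∈ V by rw [show f x.1 = η from x.2]; exact hηV⟩
  have hgen : ∀ x, closure {pt x} ∈ irreducibleComponents (f ⁻¹ᵁ V : X.Opens) := by
    intro x
    refine ⟨isIrreducible_singleton.closure, fun T hT hsub ↦ ?_⟩
    obtain ⟨ξ, hξ⟩ := QuasiSober.sober hT.closure isClosed_closure
    intro t ht
    have h1 : ξ ⤳ pt x :=
      hξ.specializes (subset_closure (hsub (subset_closure (Set.mem_singleton _))))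
    have hX : closure {(pt x).1} ∈ irreducibleComponents (X : Type u) :=
      (Groth.Agent.S9682.result f η hη).1.2 hqf x.1 x.2
    have h2 : ξ = pt x := Subtype.ext
      (MorQ9.eq_of_specializes_generic hX (h1.map continuous_subtype_val))
    rw [← h2, hξ]
    exact subset_closure ht
  obtain ⟨U, hU, hdisj⟩ := MorQ9.exists_disjoint_affine_nhds (X := (f ⁻¹ᵁ V : X.Opens).toScheme) pt
    hgen (fun a b h ↦ Subtype.ext (congrArg (fun w : (f ⁻¹ᵁ V : X.Opens) ↦ w.1) h)) (fun _ ↦ ⊤) (fun _ ↦ trivial)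
  let g := f ∣_ V
  let C := closure (g '' (((⨆ i, U i : (f ⁻¹ᵁ V : X.Opens).toScheme.Opens) : Set _)ᶜ))
  let ηV : (V : Scheme.{u}) := ⟨η, hηV⟩
  have hηVgen : ∀ z : (V : Scheme.{u}), z ⤳ ηV → z = ηV := fun z hz ↦ Subtype.ext
    (MorQ9.eq_of_specializes_generic hη (hz.map continuous_subtype_val))
  have hηC : ηV ∉ C := fun h ↦ by
    obtain ⟨z, hz, hzη⟩ := GrpdQuot.exists_specializes_of_mem_closure g _
      (⨆ i, U i : (f ⁻¹ᵁ V : X.Opens).toScheme.Opens).isOpen.isClosed_compl _ h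
    have h3 : f z.1 = η := by
      have := congrArg Subtype.val (hηVgen _ hzη)
      refine Eq.trans ?_ this
      change ((f ⁻¹ᵁ V).ι ≫ f) z = (g ≫ V.ι) z
      rw [morphismRestrict_ι]
    exact hz (TopologicalSpace.Opens.mem_iSup.mpr ⟨⟨z.1, h3⟩, (hU ⟨z.1, h3⟩).2.1⟩)
  obtain ⟨V₁, hV₁, hηV₁, hV₁le⟩ := exists_isAffineOpen_mem_and_subset
    (show ηV ∈ (⟨Cᶜ, isClosed_closure.isOpen_compl⟩ : (V : Scheme.{u}).Opens) from hηC)
  have hsub : g ⁻¹ᵁ V₁ ≤ ⨆ i, U i := fun z hz ↦ by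
    by_contra hcon
    exact hV₁le hz (subset_closure ⟨z, hcon, rfl⟩)
  have hUaff : IsAffineOpen (⨆ i, U i : (f ⁻¹ᵁ V : X.Opens).toScheme.Opens) :=
    IsAffineOpen.iSup_of_disjoint (fun i ↦ (hU i).1) hdisj
  let g₁ := g ∣_ V₁
  have : IsSeparated g₁ := by
    have : IsAffine _ := hUaff
    have : IsAffine (V₁ : Scheme.{u}) := hV₁
    have h1 : IsSeparated (Scheme.homOfLE _ hsub ≫
        terminal.from ((⨆ i, U i : (f ⁻¹ᵁ V : X.Opens).toScheme.Opens) : Scheme.{u})) := inferInstance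
    have h2 : IsSeparated (g₁ ≫ terminal.from (V₁ : Scheme.{u})) := by
      rwa [show g₁ ≫ terminal.from _ = Scheme.homOfLE _ hsub ≫ terminal.from _ from
        terminalIsTerminal.hom_ext _ _]
    exact IsSeparated.of_comp g₁ (terminal.from (V₁ : Scheme.{u}))
  have : LocallyOfFiniteType g₁ := IsZariskiLocalAtTarget.restrict
    (IsZariskiLocalAtTarget.restrict ‹LocallyOfFiniteType f› V) V₁
  have : LocallyQuasiFinite g := by
    refine (MorphismProperty.arrow_mk_iso_iff @LocallyQuasiFinite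
      (morphismRestrictEq f (show V₀.ι ''ᵁ (V₀.ι ⁻¹ᵁ V) = V by
        rw [Scheme.Hom.image_preimage_eq_opensRange_inf, Scheme.Opens.opensRange_ι,
          inf_eq_right]; exact hVle))).mp ?_
    exact (MorphismProperty.arrow_mk_iso_iff @LocallyQuasiFinite
      (morphismRestrictRestrict f V₀ (V₀.ι ⁻¹ᵁ V))).mp (IsZariskiLocalAtTarget.restrict hV₀ _)
  obtain ⟨W, hW, hWmem⟩ := MonoHom.exists_open_isFinite g₁
  have hηW : (⟨ηV, hηV₁⟩ : (V₁ : Scheme.{u})) ∈ W := hWmem _ fun y' _ hy' ↦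
    Subtype.ext (hηVgen _ (hy'.map continuous_subtype_val))
  obtain ⟨W', hW', hηW', hW'le⟩ := exists_isAffineOpen_mem_and_subset hηW
  let O : Y.Opens := V.ι ''ᵁ (V₁.ι ''ᵁ W')
  refine ⟨O, (hW'.image_of_isOpenImmersion V₁.ι).image_of_isOpenImmersion V.ι,
    ⟨ηV, ⟨⟨ηV, hηV₁⟩, hηW', rfl⟩, rfl⟩, ?_⟩
  have hW'fin : IsFinite (g₁ ∣_ W') := by
    have h := IsZariskiLocalAtTarget.restrict (P := @IsFinite) hW (W.ι ⁻¹ᵁ W')
    rw [MorphismProperty.arrow_mk_iso_iff @IsFinite (morphismRestrictRestrict g₁ W (W.ι ⁻¹ᵁ W'))] at h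
    have he : W.ι ''ᵁ (W.ι ⁻¹ᵁ W') = W' := by
      rw [Scheme.Hom.image_preimage_eq_opensRange_inf, Scheme.Opens.opensRange_ι, inf_eq_right]
      exact hW'le
    rwa [he] at h
  exact (MorphismProperty.arrow_mk_iso_iff @IsFinite (morphismRestrictRestrict f V _)).mp
    ((MorphismProperty.arrow_mk_iso_iff @IsFinite (morphismRestrictRestrict g V₁ W')).mp hW'fin)

end GrothLib.GenFinite9
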